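import Groth.Agent.ComodLib.Invariants
import Groth.Agent.ComodLib.Integral
import Groth.Agent.AdicLib.Basic
import Mathlib

/-! # Invariants of a module over a complete local ring of invariants -/

universe u v w w'

open TensorProduct

namespace Groth.Agent.InvTop

set_option maxHeartbeats 1600000
set_option synthInstance.maxHeartbeats 200000

theorem isArtinianRing_quotient_pow {B : Type u} [CommRing B] [IsNoetherianRing B] (m : Ideal B)
    [m.IsMaximal] (n : ℕ) : IsArtinianRing (B ⧸ m ^ n) := by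
  have : IsNoetherianRing (B ⧸ m ^ n) :=
    isNoetherianRing_of_surjective B (B ⧸ m ^ n) (Ideal.Quotient.mk _) Ideal.Quotient.mk_surjective
  have : Ring.KrullDimLE 0 (B ⧸ m ^ n) := Ring.krullDimLE_zero_iff.mpr fun P hP => by
    have := hP.comap (Ideal.Quotient.mk (m ^ n))
    have hle : m ≤ P.comap (Ideal.Quotient.mk (m ^ n)) := this.le_of_pow_le (n := n)
      (fun x hx => by
        rw [Ideal.mem_comap, Ideal.Quotient.eq_zero_iff_mem.2 hx]
        exact P.zero_mem)
    have he := (inferInstance : m.IsMaximal).eq_of_le this.ne_top hle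
    have hn : n ≠ 0 := by
      rintro rfl
      refine hP.ne_top ((Ideal.eq_top_iff_one P).2 ?_)
      have h1 : (1 : B ⧸ m ^ 0) = 0 := (map_one (Ideal.Quotient.mk (m ^ 0))).symm.trans
        (Ideal.Quotient.eq_zero_iff_mem.2 (by simp))
      rw [h1]
      exact P.zero_mem
    rw [← Ideal.map_comap_of_surjective _ Ideal.Quotient.mk_surjective P, ← he]
    exact Ideal.IsMaximal.map_of_surjective_of_ker_le Ideal.Quotient.mk_surjective
      (by rw [Ideal.mk_ker]; exact Ideal.pow_le_self hn)
  exact IsNoetherianRing.isArtinianRing_of_krullDimLE_zero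

variable {k : Type u} [Field k] {H : Type v} [CommRing H] [HopfAlgebra k H]
  {A : Type w} [CommRing A] [Algebra k A] [HopfRep.Comod k H A] [GLin.IsCoactAlg k H A]
  {M : Type w'} [AddCommGroup M] [Module k M] [Module A M] [IsScalarTower k A M]
  [HopfRep.Comod k H M] [TameAct.IsHopfMod k H A M]
  {α : H →ₗ[k] k}

set_option quotPrecheck false in
local notation "B" => ↥(GLin.invariants k H A)

open ComodLib in
theorem rey_invariant_smul {c : A} (hc : c ∈ GLin.invariants k H A) (y : M) :
    rey α (c • y) = c • rey α y := by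
  simp only [rey, actF_apply]
  rw [TameAct.IsHopfMod.coact_smul (k := k) (A := H),
    show HopfRep.Comod.coact (k := k) (A := H) c = c ⊗ₜ[k] (1 : H) from hc]
  induction HopfRep.Comod.coact (k := k) (A := H) y using TensorProduct.induction_on with
  | zero => simp
  | tmul a b => simp; rw [smul_comm]
  | add p q hp hq => simp only [map_add, smul_add, hp, hq]

variable (k H A M) in
/-- The fixed vectors as a module over the invariants. -/
noncomputable def fixedMod : Submodule B M where
  carrier := HopfRep.fixedPts k H M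
  add_mem' ha hb := add_mem ha hb
  zero_mem' := zero_mem _
  smul_mem' c y hy := by
    show HopfRep.Comod.coact (k := k) (A := H) ((c : A) • y) = ((c : A) • y) ⊗ₜ[k] (1 : H)
    rw [TameAct.IsHopfMod.coact_smul (k := k) (A := H),
      show HopfRep.Comod.coact (k := k) (A := H) (c : A) = (c : A) ⊗ₜ[k] (1 : H) from c.2,
      show HopfRep.Comod.coact (k := k) (A := H) y = y ⊗ₜ[k] (1 : H) from hy]
    simp

theorem mem_fixedMod {x : M} : x ∈ fixedMod k H A M ↔ x ∈ HopfRep.fixedPts k H M := Iff.rfl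

variable [IsNoetherianRing A] [Module.Finite A M]

theorem finite_fixedMod (hα : ComodLib.IsIntegral k α) (h1 : α 1 = 1) :
    Module.Finite B (fixedMod k H A M) := by
  classical
  obtain ⟨s, hs, hgen⟩ := ComodLib.exists_finset_fixedPts (A := H) (R := A) (M := M) hα h1
  refine ⟨⟨s.attach.image fun y => (⟨y.1, hs y.2⟩ : fixedMod k H A M), ?_⟩⟩
  rw [eq_top_iff]
  rintro ⟨m, hm⟩ -
  obtain ⟨c, hc, hsum⟩ := hgen m hm
  have : (⟨m, hm⟩ : fixedMod k H A M) =
      ∑ y ∈ s.attach, (⟨c y.1, hc y.1 y.2⟩ : B) • (⟨y.1, hs y.2⟩ : fixedMod k H A M) := by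
    apply Subtype.ext
    rw [AddSubmonoidClass.coe_finsetSum]
    exact hsum.trans (Finset.sum_attach s fun y => c y • y).symm
  rw [this]
  exact Submodule.sum_mem _ fun y hy => Submodule.smul_mem _ _ (Submodule.subset_span
    (Finset.mem_coe.2 (Finset.mem_image.2 ⟨y, hy, rfl⟩)))

variable (m : Ideal A) [m.IsMaximal]

/-- An invariant outside `m` is a unit among the invariants. -/
theorem isUnit_of_not_mem (hα : ComodLib.IsIntegral k α) (h1 : α 1 = 1) [IsLocalRing B]
    {b : B} (hb : (b : A) ∉ m) (hm : HopfRep.IsSubcomod (k := k) (A := H) (m.restrictScalars k)) :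
    IsUnit b := by
  obtain ⟨a, i, hi, hai⟩ := (inferInstance : m.IsMaximal).exists_inv hb
  have h := ComodLib.rey_mem_of_isSubcomod (α := α) hm (show i ∈ m.restrictScalars k from hi)
  have h2 : ComodLib.rey α a * (b : A) + ComodLib.rey α i = 1 := by
    rw [← ComodLib.rey_mul_invariant a b.2, ← map_add, hai]
    exact ComodLib.rey_of_fixed h1 (GLin.invariants k H A).one_mem
  let a' : B := ⟨_, ComodLib.rey_mem_fixedPts hα a⟩
  let i' : B := ⟨_, ComodLib.rey_mem_fixedPts hα i⟩
  have h3 : a' * b + i' = 1 := Subtype.ext h2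
  rcases IsLocalRing.isUnit_or_isUnit_of_add_one h3 with h4 | h4
  · exact isUnit_of_mul_isUnit_right h4
  · exact absurd (Ideal.eq_top_of_isUnit_mem m h (h4.map (GLin.invariants k H A).val))
      (inferInstance : m.IsMaximal).ne_top

omit [IsNoetherianRing A] [Module.Finite A M] in
theorem restrict_map_smul_top (J : Ideal B) :
    (J.map (GLin.invariants k H A).val.toRingHom • ⊤ : Submodule A M).restrictScalars B = (J • ⊤ : Submodule B M) := by
  have h : ((J.map (algebraMap B A)) • (⊤ : Submodule A M)).restrictScalars B = J • (⊤ : Submodule A M).restrictScalars B :=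
    Ideal.smul_restrictScalars J _
  rw [Submodule.restrictScalars_top] at h
  exact h

/-- Krull intersection, averaged. -/
theorem mem_of_forall_mem_sup (hα : ComodLib.IsIntegral k α) (h1 : α 1 = 1) [IsLocalRing B]
    (hm : HopfRep.IsSubcomod (k := k) (A := H) (m.restrictScalars k))
    (J : Ideal B) {x : M} (hx : x ∈ fixedMod k H A M)
    (h : ∀ n : ℕ, x ∈ (m ^ n • ⊤ : Submodule A M) ⊔ (J.map (GLin.invariants k H A).val.toRingHom • ⊤)) :
    (⟨x, hx⟩ : fixedMod k H A M) ∈ (J • ⊤ : Submodule B (fixedMod k H A M)) := by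
  set L : Submodule A M := J.map (GLin.invariants k H A).val.toRingHom • ⊤
  have hq : L.mkQ x ∈ (⨅ i : ℕ, m ^ i • ⊤ : Submodule A (M ⧸ L)) := by
    refine Submodule.mem_iInf _ |>.2 fun i => ?_
    have h2 := Submodule.mem_map_of_mem (f := L.mkQ) (h i)
    rwa [Submodule.map_sup, Submodule.map_smul'', Submodule.map_top, Submodule.range_mkQ,
      Submodule.mkQ_map_self, sup_bot_eq] at h2
  obtain ⟨⟨a, ha⟩, hax⟩ := (Ideal.mem_iInf_smul_pow_eq_bot_iff m (L.mkQ x)).1 hq
  have hmem : x - a • x ∈ L := by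
    rw [← Submodule.ker_mkQ L, LinearMap.mem_ker, map_sub, map_smul]
    exact sub_eq_zero.2 hax.symm
  -- averaging
  have key : ∀ z ∈ L, (⟨ComodLib.rey α z, ComodLib.rey_mem_fixedPts hα z⟩ : fixedMod k H A M) ∈
      (J • ⊤ : Submodule B (fixedMod k H A M)) := by
    intro z hz
    have hz' : z ∈ (J • ⊤ : Submodule B M) := by
      rw [← restrict_map_smul_top]
      exact hz
    clear hz
    refine Submodule.smul_induction_on (p := fun z =>
      (⟨ComodLib.rey α z, ComodLib.rey_mem_fixedPts hα z⟩ : fixedMod k H A M) ∈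
        (J • ⊤ : Submodule B (fixedMod k H A M))) hz' ?_ ?_
    · intro r hr y _
      have h2 : (⟨ComodLib.rey α (r • y), ComodLib.rey_mem_fixedPts hα _⟩ : fixedMod k H A M) =
          r • ⟨ComodLib.rey α y, ComodLib.rey_mem_fixedPts hα y⟩ :=
        Subtype.ext (rey_invariant_smul r.2 y)
      rw [h2]
      exact Submodule.smul_mem_smul hr trivial
    · intro a b ha hb
      have h2 : (⟨ComodLib.rey α (a + b), ComodLib.rey_mem_fixedPts hα _⟩ : fixedMod k H A M) =
          ⟨ComodLib.rey α a, ComodLib.rey_mem_fixedPts hα a⟩ + ⟨ComodLib.rey α b, ComodLib.rey_mem_fixedPts hα b⟩ :=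
        Subtype.ext (map_add _ a b)
      rw [h2]
      exact add_mem ha hb
  let a' : B := ⟨_, ComodLib.rey_mem_fixedPts hα a⟩
  have hu : IsUnit (1 - a') := isUnit_of_not_mem m hα h1 (fun h2 => (inferInstance : m.IsMaximal).ne_top
    (m.eq_top_iff_one.2 (by
      have h3 := add_mem h2 (ComodLib.rey_mem_of_isSubcomod (α := α) hm (show a ∈ m.restrictScalars k from ha))
      simpa [a'] using h3))) hm
  have h4 : (⟨ComodLib.rey α (x - a • x), ComodLib.rey_mem_fixedPts hα _⟩ : fixedMod k H A M) =
      (1 - a') • ⟨x, hx⟩ := by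
    apply Subtype.ext
    show ComodLib.rey α (x - a • x) = ((1 - a' : B) : A) • x
    rw [map_sub, ComodLib.rey_of_fixed h1 hx, ComodLib.rey_smul_fixed a hx]
    simp [a', sub_smul]
  have h5 := key _ hmem
  rw [h4] at h5
  exact (Submodule.smul_mem_iff_of_isUnit _ hu).1 h5

theorem result (hα : ComodLib.IsIntegral k α) (h1 : α 1 = 1) [IsLocalRing B] [IsNoetherianRing B]
    [IsAdicComplete (IsLocalRing.maximalIdeal B) B]
    (hm : HopfRep.IsSubcomod (k := k) (A := H) (m.restrictScalars k)) :
    (∀ x ∈ HopfRep.fixedPts k H M, (∀ n : ℕ, x ∈ (m ^ n • ⊤ : Submodule A M)) → x = 0) ∧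
      ∀ x : ℕ → M, (∀ n, x n ∈ HopfRep.fixedPts k H M) →
        (∀ n, x (n + 1) - x n ∈ (m ^ n • ⊤ : Submodule A M)) →
          ∃ y ∈ HopfRep.fixedPts k H M, ∀ n, y - x n ∈ (m ^ n • ⊤ : Submodule A M) := by
  set n₀ := IsLocalRing.maximalIdeal B
  haveI : Module.Finite B (fixedMod k H A M) := finite_fixedMod hα h1
  refine ⟨fun x hx h => ?_, fun x hx hcauchy => ?_⟩
  · have h2 := mem_of_forall_mem_sup m hα h1 hm ⊥ hx fun n => Submodule.mem_sup_left (h n)
    rw [Submodule.bot_smul, Submodule.mem_bot] at h2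
    exact congrArg Subtype.val h2
  haveI : IsAdicComplete n₀ (fixedMod k H A M) := AdicLib.isAdicComplete_of_finite n₀ _
  have hn₀m : n₀.map (GLin.invariants k H A).val.toRingHom ≤ m := Ideal.map_le_iff_le_comap.2 fun b hb => by
    by_contra hbm
    exact (IsLocalRing.mem_maximalIdeal b).1 hb (isUnit_of_not_mem m hα h1 hbm hm)
  -- stabilisation
  let F : ℕ → ℕ → Submodule B (fixedMod k H A M) := fun r n =>
    (((m ^ n • ⊤ : Submodule A M) ⊔ ((n₀ ^ r).map (GLin.invariants k H A).val.toRingHom • ⊤)).restrictScalars B).comap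
      (fixedMod k H A M).subtype
  have hanti : ∀ r p q, p ≤ q → F r q ≤ F r p := fun r p q hpq =>
    Submodule.comap_mono (fun z hz => (sup_le_sup_right (Submodule.smul_mono_left (Ideal.pow_le_pow_right hpq)) _ : _ ≤ (m ^ p • ⊤ : Submodule A M) ⊔ _) hz)
  have hstab : ∀ r, ∃ N, ∀ z ∈ F r N, z ∈ (n₀ ^ r • ⊤ : Submodule B (fixedMod k H A M)) := by
    intro r
    set P : Submodule B (fixedMod k H A M) := n₀ ^ r • ⊤
    haveI : IsArtinianRing (B ⧸ n₀ ^ r) := isArtinianRing_quotient_pow n₀ r
    haveI : IsArtinian (B ⧸ n₀ ^ r) ((fixedMod k H A M) ⧸ P) := by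
      haveI : Module.Finite (B ⧸ n₀ ^ r) ((fixedMod k H A M) ⧸ P) := Module.Finite.of_restrictScalars_finite B _ _
      exact isArtinian_of_fg_of_artinian'
    haveI : IsArtinian B ((fixedMod k H A M) ⧸ P) :=
      isArtinian_of_surjective_algebraMap (R := B ⧸ n₀ ^ r) (S := B) Ideal.Quotient.mk_surjective
    obtain ⟨N, hN⟩ := IsArtinian.monotone_stabilizes
      (⟨fun n => OrderDual.toDual ((F r n).map P.mkQ), fun p q h =>
        OrderDual.toDual_le_toDual.2 (Submodule.map_mono (hanti r p q h))⟩ :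
          ℕ →o (Submodule B ((fixedMod k H A M) ⧸ P))ᵒᵈ)
    refine ⟨N, fun z hz => ?_⟩
    refine mem_of_forall_mem_sup m hα h1 hm (n₀ ^ r) z.2 fun n => ?_
    have h2 : P.mkQ z ∈ (F r (max n N)).map P.mkQ := by
      rw [← show (F r N).map P.mkQ = (F r (max n N)).map P.mkQ from
        OrderDual.toDual.injective (hN _ (le_max_right n N))]
      exact Submodule.mem_map_of_mem hz
    obtain ⟨w, hw, hwz⟩ := h2
    have h3 : z - w ∈ P := (Submodule.Quotient.eq P).1 hwz.symm
    have h4 : (((z - w : fixedMod k H A M) : M)) ∈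
        ((n₀ ^ r).map (GLin.invariants k H A).val.toRingHom • ⊤ : Submodule A M) := by
      have h5 := Submodule.mem_map_of_mem (f := (fixedMod k H A M).subtype) h3
      rw [Submodule.map_smul''] at h5
      exact (SetLike.ext_iff.1 (restrict_map_smul_top (M := M) (n₀ ^ r)) _).2 (Submodule.smul_mono le_rfl le_top h5)
    have h6 : (z : M) = (w : M) + ((z - w : fixedMod k H A M) : M) := by simp
    rw [h6]
    refine add_mem (hanti r n (max n N) (le_max_left _ _) hw) (Submodule.mem_sup_right h4)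
  choose N hN using hstab
  let N' : ℕ → ℕ := fun r => r + ∑ i ∈ Finset.range (r + 1), N i
  have hN'mono : Monotone N' := fun a b h => Nat.add_le_add h
    (Finset.sum_le_sum_of_subset (Finset.range_mono (by omega)))
  have hNle : ∀ r, N r ≤ N' r := fun r => le_add_of_nonneg_of_le (Nat.zero_le _)
    (Finset.single_le_sum (fun i _ => Nat.zero_le (N i)) (Finset.self_mem_range_succ r))
  have hdiff : ∀ a b, a ≤ b → x b - x a ∈ (m ^ a • ⊤ : Submodule A M) := by
    intro a b hab
    induction b, hab using Nat.le_induction with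
    | base => simp
    | succ b hab ih =>
      have := add_mem (Submodule.smul_mono_left (Ideal.pow_le_pow_right hab) (hcauchy b)) ih
      simpa using this
  let y' : ℕ → fixedMod k H A M := fun r => ⟨x (N' r), hx _⟩
  obtain ⟨L, hL⟩ := IsPrecomplete.prec (inferInstance : IsPrecomplete n₀ (fixedMod k H A M)) (f := y') (fun {r s} hrs => by
    rw [SModEq.sub_mem]
    refine hN r _ ?_
    have h7 : x (N' r) - x (N' s) ∈ (m ^ N r • ⊤ : Submodule A M) := by
      rw [← neg_sub]
      exact Submodule.smul_mono_left (Ideal.pow_le_pow_right (hNle r)) (neg_mem (hdiff _ _ (hN'mono hrs)))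
    exact Submodule.mem_sup_left h7)
  refine ⟨L, L.2, fun n => ?_⟩
  have h8 := Submodule.mem_map_of_mem (f := (fixedMod k H A M).subtype) (SModEq.sub_mem.1 (hL n))
  rw [Submodule.map_smul''] at h8
  have h9 : (x (N' n) - (L : M)) ∈ (m ^ n • ⊤ : Submodule A M) := by
    have h10 : (((n₀ ^ n).map (GLin.invariants k H A).val.toRingHom) • ⊤ : Submodule A M) ≤ m ^ n • ⊤ :=
      Submodule.smul_mono_left (by rw [Ideal.map_pow]; exact Ideal.pow_right_mono hn₀m n)
    exact h10 ((SetLike.ext_iff.1 (restrict_map_smul_top (M := M) (n₀ ^ n)) _).2 (Submodule.smul_mono le_rfl le_top h8))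
  have h11 : x (N' n) - x n ∈ (m ^ n • ⊤ : Submodule A M) := hdiff _ _ (Nat.le_add_right n _)
  have := sub_mem h11 h9
  simpa using this

end Groth.Agent.InvTop
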